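import Mathlib
import Cfsg.Prelude.Def_GeometricClasses
import Cfsg.Agent.Lib.Helper18.ONE.Defs

set_option autoImplicit false

/-!
# Project BCS (designer lead): definitions for S2362 (10u).
`PΩ_{2n+1}(q)` and `PSp_{2n}(q)`, `q` odd, `n ≥ 3`, do not have the same set of element orders.

With `m = n - 1 ≥ 2` and a prime `ℓ` such that `PPD q m ℓ`, the number `2 p ℓ` is an element order of `PSp_{2n}(q)`
(`(-y) ⊕ t` in `Sp_{2m}(q) × Sp_2(q)`, `y` of order `ℓ`, `t` a transvection) but not of `Ω_{2n+1}(q) = PΩ_{2n+1}(q)`.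

Vocabulary reused: helper13's S5955 (`SND`, `SOrth`, `SInv`, `fixS`, `cycS`), helper15's S5972 (`OCtx`, `stdO`),
helper18's ONE (`OTy`, `SHyp`).
-/

namespace Cfsg.Agent.Lib.Lead.BCS

open Polynomial Module Cfsg.Agent.Lib.Helper13.S5955 Cfsg.Agent.Lib.helper15.S5972
  Cfsg.Agent.Lib.Helper18.ONE

/-- the order condition on the prime `ℓ`: `ord_ℓ q = 2m`, or `ord_ℓ q = m` with `m` odd; in both cases
`c = (if Even i then i else 2 i) = 2m` -/
def OrdC (q m ℓ : ℕ) : Prop :=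
  orderOf ((q : ℕ) : ZMod ℓ) = 2 * m ∨ (orderOf ((q : ℕ) : ZMod ℓ) = m ∧ Odd m)

/-- the choice of the prime `ℓ`: the `2m`-space `cycS ℓ y` of an element `y` of order `ℓ` is elliptic when `q^m ≡ 1 (mod 4)`
and hyperbolic when `q^m ≡ 3 (mod 4)`, so that `-1` on it (and `1` on the orthogonal `3`-space) is NOT in `Ω` -/
def PPD (q m ℓ : ℕ) : Prop :=
  (q ^ m % 4 = 1 ∧ orderOf ((q : ℕ) : ZMod ℓ) = 2 * m) ∨
    (q ^ m % 4 = 3 ∧ orderOf ((q : ℕ) : ZMod ℓ) = m ∧ Odd m)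

theorem ppd_ordc {q m ℓ : ℕ} (h : PPD q m ℓ) : OrdC q m ℓ := by
  rcases h with ⟨-, h⟩ | ⟨-, h, h'⟩
  · exact Or.inl h
  · exact Or.inr ⟨h, h'⟩

theorem ordc_c {q m ℓ : ℕ} (h : OrdC q m ℓ) :
    2 * m = if Even (orderOf ((q : ℕ) : ZMod ℓ)) then orderOf ((q : ℕ) : ZMod ℓ)
      else 2 * orderOf ((q : ℕ) : ZMod ℓ) := by
  rcases h with h | ⟨h, h'⟩
  · rw [h, if_pos ⟨m, by ring⟩]
  · rw [h, if_neg (Nat.not_even_iff_odd.mpr h')]

variable {F : Type*} [Field F] {V : Type*} [AddCommGroup V] [Module F V]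

theorem bcs_mem_fixS (x : Module.End F V) (v : V) : v ∈ fixS x ↔ x v = v := by
  unfold fixS
  rw [LinearMap.mem_ker, map_sub, aeval_X, map_one, LinearMap.sub_apply, Module.End.one_apply,
    sub_eq_zero]

theorem bcs_mem_cyc_two (x : Module.End F V) (v : V) : v ∈ cycS 2 x ↔ x v = -v := by
  unfold cycS
  rw [cyclotomic_two, LinearMap.mem_ker, map_add, aeval_X, map_one, LinearMap.add_apply,
    Module.End.one_apply, add_eq_zero_iff_eq_neg]

end Cfsg.Agent.Lib.Lead.BCS
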